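import Cfsg.Agent.EPPOFour.Arithmetic
import Cfsg.Agent.Components.FStar
import Cfsg.Agent.Linear.Basic
import Cfsg.Agent.Linear.SmallIsoTools
import Cfsg.Agent.Suzuki.LieModel
import Cfsg.Agent.S3992
import Cfsg.Agent.S1475

/-!
# At most four primes divide the order of a group of prime power element orders

Given the list of the simple ones.
-/

set_option autoImplicit false
set_option linter.unusedSectionVars false
set_option linter.style.haveILetI false

namespace CfsgLib.EPPOFour

open Subgroup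

universe u

/-- The simple groups of prime power element orders. -/
def SimpleList (T : Type*) [Group T] : Prop :=
    Nonempty (T ≃* alternatingGroup (Fin 6)) ∨
    (∃ (F : Type) (_ : Field F) (_ : Fintype F), Fintype.card F ∈ ({4, 7, 8, 17} : Finset ℕ) ∧
      Nonempty (T ≃* Matrix.ProjectiveSpecialLinearGroup (Fin 2) F)) ∨
    (∃ (F : Type) (_ : Field F) (_ : Fintype F), Fintype.card F = 4 ∧
      Nonempty (T ≃* Matrix.ProjectiveSpecialLinearGroup (Fin 3) F)) ∨
    (∃ (F : Type) (_ : Field F) (_ : Fintype F),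
      (Fintype.card F = 8 ∧ Nonempty (T ≃* ↥(Cfsg.Lie.Sz F 4))) ∨
        (Fintype.card F = 32 ∧ Nonempty (T ≃* ↥(Cfsg.Lie.Sz F 8))))

theorem card_psl_three_four {F : Type*} [Field F] [Fintype F] (hF : Fintype.card F = 4) :
    Nat.card (Matrix.ProjectiveSpecialLinearGroup (Fin 3) F) = 20160 := by
  have h1 := CfsgLib.Linear.card_PSL_mul (n := Fin 3) (F := F)
  have h2 := CfsgLib.Linear.card_SL_mul (n := Fin 3) (F := F)
  rw [Matrix.card_GL_field, hF] at h2
  rw [hF, Fintype.card_fin] at h1
  simp [Fin.prod_univ_three] at h2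
  norm_num at h1
  omega

theorem card_lie_sz {F : Type*} [Field F] [Fintype F] {m : ℕ} (hm : 1 ≤ m)
    (hF : Fintype.card F = 2 ^ (2 * m + 1)) :
    Nat.card (Cfsg.Lie.Sz F (2 ^ (m + 1))) =
      Fintype.card F ^ 2 * (Fintype.card F ^ 2 + 1) * (Fintype.card F - 1) :=
  (Nat.card_congr (Suzuki.lieSzEquiv ⟨hm, hF⟩).toEquiv).symm.trans (Suzuki.card_sz ⟨hm, hF⟩)

/-- At most three primes divide a number dividing a power of a product of three primes. -/
theorem card_primeFactors_le {n a b c k : ℕ} (ha : a.Prime) (hb : b.Prime) (hc : c.Prime)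
    (h : n ∣ (a * b * c) ^ k) : n.primeFactors.card ≤ 3 := by
  refine le_trans (Finset.card_le_card (t := {a, b, c}) fun s hs => ?_) Finset.card_le_three
  obtain ⟨hs, hsd, -⟩ := Nat.mem_primeFactors.1 hs
  have h1 := hs.dvd_of_dvd_pow (hsd.trans h)
  simp only [Finset.mem_insert, Finset.mem_singleton]
  rcases (Nat.Prime.dvd_mul hs).1 h1 with h2 | h2
  · rcases (Nat.Prime.dvd_mul hs).1 h2 with h3 | h3
    · exact Or.inl ((Nat.prime_dvd_prime_iff_eq hs ha).1 h3)
    · exact Or.inr (Or.inl ((Nat.prime_dvd_prime_iff_eq hs hb).1 h3))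
  · exact Or.inr (Or.inr ((Nat.prime_dvd_prime_iff_eq hs hc).1 h2))

/-- At most four primes divide a number dividing a power of a product of four primes. -/
theorem card_primeFactors_le_four {n a b c d k : ℕ} (ha : a.Prime) (hb : b.Prime) (hc : c.Prime)
    (hd : d.Prime) (h : n ∣ (a * b * c * d) ^ k) : n.primeFactors.card ≤ 4 := by
  refine le_trans (Finset.card_le_card (t := {a, b, c, d}) fun s hs => ?_) Finset.card_le_four
  obtain ⟨hs, hsd, -⟩ := Nat.mem_primeFactors.1 hs
  have h1 := hs.dvd_of_dvd_pow (hsd.trans h)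
  simp only [Finset.mem_insert, Finset.mem_singleton]
  rcases (Nat.Prime.dvd_mul hs).1 h1 with h2 | h2
  · rcases (Nat.Prime.dvd_mul hs).1 h2 with h3 | h3
    · rcases (Nat.Prime.dvd_mul hs).1 h3 with h4 | h4
      · exact Or.inl ((Nat.prime_dvd_prime_iff_eq hs ha).1 h4)
      · exact Or.inr (Or.inl ((Nat.prime_dvd_prime_iff_eq hs hb).1 h4))
    · exact Or.inr (Or.inr (Or.inl ((Nat.prime_dvd_prime_iff_eq hs hc).1 h3)))
  · exact Or.inr (Or.inr (Or.inr ((Nat.prime_dvd_prime_iff_eq hs hd).1 h2)))

variable {G : Type*} [Group G] [Finite G]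

/-- The conclusion from the isomorphism type of the socle. -/
theorem of_socle (hpp : ∀ g : G, g ≠ 1 → IsPrimePow (orderOf g)) (R : Subgroup G) [R.Normal] {p : ℕ}
    (hp : p.Prime) (hR : IsPGroup p R) (M : Subgroup (G ⧸ R)) [M.Normal] [IsSimpleGroup ↥M]
    (hna : ¬ IsMulCommutative ↥M) (hM : SimpleList ↥M) :
    (Nat.card G).primeFactors.card ≤ 4 ∧
    ((Nat.card G).primeFactors.card = 4 →
      (∃ (F : Type) (_ : Field F) (_ : Fintype F), Fintype.card F = 4 ∧
        Nonempty (G ≃* Matrix.ProjectiveSpecialLinearGroup (Fin 3) F)) ∨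
      (∃ (N : Subgroup G) (_ : N.Normal), IsPGroup 2 ↥N ∧
        ∃ (F : Type) (_ : Field F) (_ : Fintype F),
          (Fintype.card F = 8 ∧ Nonempty (G ⧸ N ≃* ↥(Cfsg.Lie.Sz F 4))) ∨
          (Fintype.card F = 32 ∧ Nonempty (G ⧸ N ≃* ↥(Cfsg.Lie.Sz F 8))))) := by
  have small : ∀ q a b c k : ℕ, q.Prime → a.Prime → b.Prime → c.Prime → q ∣ Nat.card M →
      ¬ q ^ 2 ∣ Nat.card M → Nat.card M ∣ (a * b * c) ^ k →
      (Nat.card G).primeFactors.card ≤ 3 := fun q a b c k hq ha hb hc h1 h2 h3 =>
    (Finset.card_le_card (primeFactors_subset hpp R hp hR M hna hq h1 h2)).trans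
      (card_primeFactors_le ha hb hc h3)
  rcases hM with ⟨⟨e⟩⟩ | ⟨F, i1, i2, hF, ⟨e⟩⟩ | ⟨F, i1, i2, hF, ⟨e⟩⟩ |
    ⟨F, i1, i2, ⟨hF, ⟨e⟩⟩ | ⟨hF, ⟨e⟩⟩⟩
  · have hT : Nat.card M = 360 := (Nat.card_congr e.toEquiv).trans
      (Linear.card_alternatingGroup' (by decide))
    have := small 5 2 3 5 3 Nat.prime_five Nat.prime_two Nat.prime_three Nat.prime_five
      (by rw [hT]; norm_num) (by rw [hT]; norm_num) (by rw [hT]; norm_num)
    exact ⟨by omega, fun h => absurd h (by omega)⟩
  · have hc := Nat.card_congr e.toEquiv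
    have hmul := Linear.card_PSL_two_mul (F := F)
    simp only [Finset.mem_insert, Finset.mem_singleton] at hF
    suffices h3 : (Nat.card G).primeFactors.card ≤ 3 by
      exact ⟨by omega, fun h => absurd h (by omega)⟩
    rcases hF with h | h | h | h <;> rw [h] at hmul <;> norm_num at hmul
    · have hT : Nat.card M = 60 := by omega
      exact small 5 2 3 5 2 Nat.prime_five Nat.prime_two Nat.prime_three Nat.prime_five
        (by rw [hT]; norm_num) (by rw [hT]; norm_num) (by rw [hT]; norm_num)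
    · have hT : Nat.card M = 168 := by omega
      exact small 7 2 3 7 3 (by norm_num) Nat.prime_two Nat.prime_three (by norm_num)
        (by rw [hT]; norm_num) (by rw [hT]; norm_num) (by rw [hT]; norm_num)
    · have hT : Nat.card M = 504 := by omega
      exact small 7 2 3 7 3 (by norm_num) Nat.prime_two Nat.prime_three (by norm_num)
        (by rw [hT]; norm_num) (by rw [hT]; norm_num) (by rw [hT]; norm_num)
    · have hT : Nat.card M = 2448 := by omega
      exact small 17 2 3 17 4 (by norm_num) Nat.prime_two Nat.prime_three (by norm_num)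
        (by rw [hT]; norm_num) (by rw [hT]; norm_num) (by rw [hT]; norm_num)
  · have hT : Nat.card M = 20160 := (Nat.card_congr e.toEquiv).trans (card_psl_three_four hF)
    refine ⟨(Finset.card_le_card (primeFactors_subset hpp R hp hR M hna (q := 7) (by norm_num)
      (by rw [hT]; norm_num) (by rw [hT]; norm_num))).trans (card_primeFactors_le_four Nat.prime_two
        Nat.prime_three Nat.prime_five (show Nat.Prime 7 by norm_num) (k := 6)
        (by rw [hT]; norm_num)), fun _ => Or.inl ⟨F, i1, i2, hF, ?_⟩⟩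
    obtain ⟨hi, hR1⟩ := of_card_20160 hpp R hp hR M hna hT
    exact ⟨(QuotientGroup.quotientBot.symm.trans (QuotientGroup.quotientMulEquivOfEq hR1.symm)).trans
      ((topEquiv.symm.trans (MulEquiv.subgroupCongr (index_eq_one.1 hi).symm)).trans e)⟩
  · have hT : Nat.card M = 29120 := (Nat.card_congr e.toEquiv).trans (by
      have h := card_lie_sz (F := F) (m := 1) le_rfl (by rw [hF]; norm_num)
      rw [hF] at h
      exact h)
    refine ⟨(Finset.card_le_card (primeFactors_subset hpp R hp hR M hna (q := 13) (by norm_num)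
      (by rw [hT]; norm_num) (by rw [hT]; norm_num))).trans (card_primeFactors_le_four Nat.prime_two
        Nat.prime_five (show Nat.Prime 7 by norm_num) (show Nat.Prime 13 by norm_num) (k := 6)
        (by rw [hT]; norm_num)), fun _ => Or.inr ⟨R, inferInstance, ?_, F, i1, i2, Or.inl ⟨hF, ?_⟩⟩⟩
    · rcases (of_card_29120 hpp R hp hR M hna hT).2 with h | h
      · rw [h]; exact IsPGroup.of_bot
      · exact h ▸ hR
    · exact ⟨(topEquiv.symm.trans (MulEquiv.subgroupCongr
        (index_eq_one.1 (of_card_29120 hpp R hp hR M hna hT).1).symm)).trans e⟩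
  · have hT : Nat.card M = 32537600 := (Nat.card_congr e.toEquiv).trans (by
      have h := card_lie_sz (F := F) (m := 2) (by norm_num) (by rw [hF]; norm_num)
      rw [hF] at h
      exact h)
    refine ⟨(Finset.card_le_card (primeFactors_subset hpp R hp hR M hna (q := 41) (by norm_num)
      (by rw [hT]; norm_num) (by rw [hT]; norm_num))).trans (card_primeFactors_le_four Nat.prime_two
        Nat.prime_five (show Nat.Prime 31 by norm_num) (show Nat.Prime 41 by norm_num) (k := 10)
        (by rw [hT]; norm_num)), fun _ => Or.inr ⟨R, inferInstance, ?_, F, i1, i2, Or.inr ⟨hF, ?_⟩⟩⟩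
    · rcases (of_card_32537600 hpp R hp hR M hna hT).2 with h | h
      · rw [h]; exact IsPGroup.of_bot
      · exact h ▸ hR
    · exact ⟨(topEquiv.symm.trans (MulEquiv.subgroupCongr
        (index_eq_one.1 (of_card_32537600 hpp R hp hR M hna hT).1).symm)).trans e⟩

/-- The conclusion, given the list of the simple groups of prime power element orders. -/
theorem main {G : Type u} [Group G] [Finite G] (hpp : ∀ g : G, g ≠ 1 → IsPrimePow (orderOf g))
    (hlist : ∀ (T : Type u) [Group T] [Finite T] [IsSimpleGroup T], ¬ IsMulCommutative T →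
      (∀ g : T, g ≠ 1 → IsPrimePow (orderOf g)) → SimpleList T) :
    (Nat.card G).primeFactors.card ≤ 4 ∧
    ((Nat.card G).primeFactors.card = 4 →
      (∃ (F : Type) (_ : Field F) (_ : Fintype F), Fintype.card F = 4 ∧
        Nonempty (G ≃* Matrix.ProjectiveSpecialLinearGroup (Fin 3) F)) ∨
      (∃ (N : Subgroup G) (_ : N.Normal), IsPGroup 2 ↥N ∧
        ∃ (F : Type) (_ : Field F) (_ : Fintype F),
          (Fintype.card F = 8 ∧ Nonempty (G ⧸ N ≃* ↥(Cfsg.Lie.Sz F 4))) ∨
          (Fintype.card F = 32 ∧ Nonempty (G ⧸ N ≃* ↥(Cfsg.Lie.Sz F 8))))) := by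
  by_cases hsol : Group.IsSolvable G
  · have h2 := Cfsg.Agent.S1475.result (G := G) fun g => by
      by_cases hg : g = 1
      · exact Or.inr hg
      · exact Or.inl (hpp g hg)
    exact ⟨by omega, fun h => absurd h (by omega)⟩
  obtain ⟨⟨p, hp, hR⟩, ⟨M, hMn, hMs, hMna, -⟩, -⟩ := Cfsg.Agent.S3992.result hsol hpp
    (Components.solvRadical G) Components.isSolvable_solvRadical
    (fun N hN hNs => haveI := hN; Components.le_solvRadical hNs)
  haveI := hMn
  haveI := hMs
  exact of_socle hpp _ hp hR M hMna (hlist ↥M hMna fun g hg => Subgroup.orderOf_coe g ▸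
    FgsSix.isPrimePow_quotient hpp _ _ fun e => hg (Subtype.ext e))

end CfsgLib.EPPOFour
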