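import Cfsg.Agent.EPPOFour.Normalizer

/-!
# The primes of a group of prime power element orders with a socle of given order

The orders 20160, 29120 and 32537600 are those of `L₃(4)`, `Sz(8)` and `Sz(32)`: the socle has index
one, and the solvable radical is trivial, respectively a 2-group.
-/

set_option autoImplicit false
set_option linter.unusedSectionVars false
set_option linter.style.haveILetI false

namespace CfsgLib.EPPOFour

open Subgroup

/-- The candidates for the automiser orders. -/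
theorem candidates {m T q x y n : ℕ} (hq0 : 0 < q) (hm : m ≠ 0) (hy : y ∣ m) (hxy : x ∣ y) (hx : 1 < x)
    (hT : T = n * (q * x)) (hn : n % q = 1) :
    x ∈ (Nat.divisors m).filter (fun z => 1 < z ∧ q * z ∣ T ∧ T / (q * z) % q = 1) := by
  rw [Finset.mem_filter, Nat.mem_divisors]
  refine ⟨⟨hxy.trans hy, hm⟩, hx, hT ▸ dvd_mul_left _ _, ?_⟩
  have hq : 0 < q * x := Nat.mul_pos hq0 (by omega)
  rw [hT, Nat.mul_div_cancel _ hq]
  exact hn

/-- A number with two coprime non-trivial factors is not a prime power. -/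
theorem not_isPrimePow_mul {a b : ℕ} (hab : a.Coprime b := by norm_num) (ha : 1 < a := by norm_num)
    (hb : 1 < b := by norm_num) : ¬ IsPrimePow (a * b) := by
  intro h
  obtain ⟨r, k, hr, -, hrk⟩ := (isPrimePow_nat_iff _).1 h
  have hh : ∀ c, 1 < c → c ∣ a * b → r ∣ c := by
    intro c hc hd
    obtain ⟨i, -, hi⟩ := (Nat.dvd_prime_pow hr).1 (hrk ▸ hd)
    rcases i with _ | i
    · rw [pow_zero] at hi; omega
    · exact hi ▸ dvd_pow_self r i.succ_ne_zero
  exact hr.ne_one (Nat.eq_one_of_dvd_coprimes hab (hh a ha (dvd_mul_right a b))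
    (hh b hb (dvd_mul_left b a)))

theorem eq_one_of_eq_pow {q q' a a' c i : ℕ} (hq : q.Prime) (hq' : q'.Prime) (hne : q ≠ q')
    (hc : q'.Coprime c) (h1 : i = q ^ a * c) (h2 : i = q' ^ a') : i = 1 := by
  rcases Nat.eq_zero_or_pos a' with rfl | ha
  · simpa using h2
  exfalso
  have : q' ∣ q ^ a * c := h1 ▸ h2 ▸ dvd_pow_self q' ha.ne'
  rcases (Nat.Prime.dvd_mul hq').1 this with h | h
  · exact hne ((Nat.prime_dvd_prime_iff_eq hq' hq).1 (hq'.dvd_of_dvd_pow h)).symm
  · exact hq'.ne_one (Nat.eq_one_of_dvd_coprimes hc dvd_rfl h)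

variable {G : Type*} [Group G] [Finite G] (hpp : ∀ g : G, g ≠ 1 → IsPrimePow (orderOf g))
  (R : Subgroup G) [R.Normal] {p : ℕ} (hp : p.Prime) (hR : IsPGroup p R)
  (M : Subgroup (G ⧸ R)) [M.Normal] [IsSimpleGroup ↥M] (hna : ¬ IsMulCommutative ↥M)

include hpp hp hR hna

/-- The socle carries all the primes. -/
theorem primeFactors_subset {q : ℕ} (hq : q.Prime) (hdvd : q ∣ Nat.card M)
    (honce : ¬ q ^ 2 ∣ Nat.card M) :
    (Nat.card G).primeFactors ⊆ (Nat.card M).primeFactors := by
  obtain ⟨x, y, n, a, hx, hxy, hyq, hy, hcard, -, hidx, N, hN, hNd⟩ :=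
    exists_data (FgsSix.isPrimePow_quotient hpp R) M hna hq hdvd honce
  obtain ⟨r, k, hr, hk, hrk⟩ := (isPrimePow_nat_iff _).1 hy
  obtain ⟨j, -, hj⟩ := (Nat.dvd_prime_pow hr).1 (hrk ▸ hxy)
  have hj0 : j ≠ 0 := fun e => by rw [hj, e, pow_zero] at hx; omega
  have hrx : r ∣ x := hj ▸ dvd_pow_self r hj0
  have hrM : r ∣ Nat.card M := hcard ▸ dvd_mul_of_dvd_right (dvd_mul_of_dvd_right hrx q) n
  have hqr : q ≠ r := by
    rintro rfl
    have := Nat.le_of_dvd (show 0 < q - 1 by have := hq.two_le; omega) ((hrx.trans hxy).trans hyq)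
    have := hq.two_le
    omega
  have hpair : ∀ s : ℕ, s.Prime → (s ∣ Nat.card M ∨ s = q ∨ s = r) →
      s ∈ (Nat.card M).primeFactors := by
    intro s hs h
    refine Nat.mem_primeFactors.2 ⟨hs, ?_, Nat.card_pos.ne'⟩
    rcases h with h | rfl | rfl
    exacts [h, hdvd, hrM]
  intro s hs
  obtain ⟨hs, hsd, -⟩ := Nat.mem_primeFactors.1 hs
  rw [card_eq_card_quotient_mul_card_subgroup R] at hsd
  rcases (Nat.Prime.dvd_mul hs).1 hsd with h | h
  · rw [← card_mul_index M] at h
    rcases (Nat.Prime.dvd_mul hs).1 h with h | h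
    · exact hpair s hs (Or.inl h)
    · have h' : s ∣ q ^ a * y := hidx ▸ dvd_mul_of_dvd_left h x
      rcases (Nat.Prime.dvd_mul hs).1 h' with h | h
      · exact hpair s hs (Or.inr (Or.inl ((Nat.prime_dvd_prime_iff_eq hs hq).1 (hs.dvd_of_dvd_pow h))))
      · rw [← hrk] at h
        exact hpair s hs (Or.inr (Or.inr ((Nat.prime_dvd_prime_iff_eq hs hr).1 (hs.dvd_of_dvd_pow h))))
  · by_cases hR1 : R = ⊥
    · rw [hR1, card_bot, Nat.dvd_one] at h
      exact absurd h hs.ne_one
    haveI := Fact.mk hp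
    obtain ⟨i, hi⟩ := IsPGroup.iff_card.1 hR
    rw [hi] at h
    have hsp : s = p := (Nat.prime_dvd_prime_iff_eq hs hp).1 (hs.dvd_of_dvd_pow h)
    rcases prime_mem_pair hpp R hp hR hR1 hN hq hr hqr ((dvd_mul_right q x).trans hNd)
      ((hrx.trans (dvd_mul_left x q)).trans hNd) with e | e
    · exact hpair s hs (Or.inr (Or.inl (hsp.trans e)))
    · exact hpair s hs (Or.inr (Or.inr (hsp.trans e)))

/-- The data at one prime, given the candidates. -/
theorem data_at {q T : ℕ} (hq : q.Prime) (hT : Nat.card M = T) (hdvd : q ∣ T) (honce : ¬ q ^ 2 ∣ T) :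
    ∃ x y a : ℕ,
      x ∈ (Nat.divisors (q - 1)).filter (fun z => 1 < z ∧ q * z ∣ T ∧ T / (q * z) % q = 1) ∧
      x ∣ y ∧ y ∈ Nat.divisors (q - 1) ∧ IsPrimePow y ∧ M.index * x = q ^ a * y ∧
      ∀ r : ℕ, r.Prime → r ∣ x → r ≠ q → R ≠ ⊥ → p = q ∨ p = r := by
  obtain ⟨x, y, n, a, hx, hxy, hyq, hy, hcard, hn, hidx, N, hN, hNd⟩ :=
    exists_data (FgsSix.isPrimePow_quotient hpp R) M hna hq (hT ▸ hdvd) (hT ▸ honce)
  have hm : q - 1 ≠ 0 := by have := hq.two_le; omega
  refine ⟨x, y, a, candidates hq.pos hm hyq hxy hx (hT ▸ hcard) hn, hxy, Nat.mem_divisors.2 ⟨hyq, hm⟩, hy,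
    hidx, fun r hr hrx hrq hR1 => ?_⟩
  exact prime_mem_pair hpp R hp hR hR1 hN hq hr (Ne.symm hrq) ((dvd_mul_right q x).trans hNd)
    ((hrx.trans (dvd_mul_left x q)).trans hNd)

theorem of_card_20160 (hT : Nat.card M = 20160) : M.index = 1 ∧ R = ⊥ := by
  obtain ⟨x, y, a, hx, hxy, hy, hyp, hidx, hpx⟩ :=
    data_at hpp R hp hR M hna (q := 7) (by norm_num) hT (by norm_num) (by norm_num)
  obtain ⟨x', y', a', hx', hxy', hy', hyp', hidx', hpx'⟩ :=
    data_at hpp R hp hR M hna (q := 5) (by norm_num) hT (by norm_num) (by norm_num)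
  have ex : x = 3 := by
    have : (Nat.divisors (7 - 1)).filter
        (fun z => 1 < z ∧ 7 * z ∣ 20160 ∧ 20160 / (7 * z) % 7 = 1) = {3} := by decide
    rw [this] at hx; simpa using hx
  have ex' : x' = 2 := by
    have : (Nat.divisors (5 - 1)).filter
        (fun z => 1 < z ∧ 5 * z ∣ 20160 ∧ 20160 / (5 * z) % 5 = 1) = {2} := by decide
    rw [this] at hx'; simpa using hx'
  subst ex ex'
  have ey : y = 3 := by
    have hd : Nat.divisors (7 - 1) = {1, 2, 3, 6} := by decide
    rw [hd] at hy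
    simp only [Finset.mem_insert, Finset.mem_singleton] at hy
    rcases hy with rfl | rfl | rfl | rfl
    · omega
    · omega
    · rfl
    · exact absurd hyp (not_isPrimePow_mul (a := 2) (b := 3))
  have ey' : y' = 2 ∨ y' = 4 := by
    have hd : Nat.divisors (5 - 1) = {1, 2, 4} := by decide
    rw [hd] at hy'
    simp only [Finset.mem_insert, Finset.mem_singleton] at hy'
    rcases hy' with rfl | rfl | rfl
    · omega
    · exact Or.inl rfl
    · exact Or.inr rfl
  subst ey
  have h1 : M.index = 7 ^ a := by omega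
  refine ⟨?_, ?_⟩
  · rcases ey' with rfl | rfl
    · exact eq_one_of_eq_pow (q := 5) (q' := 7) (a := a') (c := 1) (by norm_num) (by norm_num)
        (by norm_num) (by norm_num) (by omega) h1
    · exact eq_one_of_eq_pow (q := 5) (q' := 7) (a := a') (c := 2) (by norm_num) (by norm_num)
        (by norm_num) (by norm_num) (by omega) h1
  · by_contra hR1
    have := hpx 3 (by norm_num) dvd_rfl (by norm_num) hR1
    have := hpx' 2 (by norm_num) dvd_rfl (by norm_num) hR1
    omega

theorem of_card_29120 (hT : Nat.card M = 29120) : M.index = 1 ∧ (R = ⊥ ∨ p = 2) := by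
  obtain ⟨x, y, a, hx, hxy, hy, hyp, hidx, hpx⟩ :=
    data_at hpp R hp hR M hna (q := 13) (by norm_num) hT (by norm_num) (by norm_num)
  obtain ⟨x', y', a', hx', hxy', hy', hyp', hidx', hpx'⟩ :=
    data_at hpp R hp hR M hna (q := 7) (by norm_num) hT (by norm_num) (by norm_num)
  have ex : x = 4 := by
    have : (Nat.divisors (13 - 1)).filter
        (fun z => 1 < z ∧ 13 * z ∣ 29120 ∧ 29120 / (13 * z) % 13 = 1) = {4} := by decide
    rw [this] at hx; simpa using hx
  have ex' : x' = 2 := by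
    have : (Nat.divisors (7 - 1)).filter
        (fun z => 1 < z ∧ 7 * z ∣ 29120 ∧ 29120 / (7 * z) % 7 = 1) = {2} := by decide
    rw [this] at hx'; simpa using hx'
  subst ex ex'
  have ey : y = 4 := by
    have hd : Nat.divisors (13 - 1) = {1, 2, 3, 4, 6, 12} := by decide
    rw [hd] at hy
    simp only [Finset.mem_insert, Finset.mem_singleton] at hy
    rcases hy with rfl | rfl | rfl | rfl | rfl | rfl
    · omega
    · omega
    · omega
    · rfl
    · omega
    · exact absurd hyp (not_isPrimePow_mul (a := 4) (b := 3))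
  have ey' : y' = 2 := by
    have hd : Nat.divisors (7 - 1) = {1, 2, 3, 6} := by decide
    rw [hd] at hy'
    simp only [Finset.mem_insert, Finset.mem_singleton] at hy'
    rcases hy' with rfl | rfl | rfl | rfl
    · omega
    · rfl
    · omega
    · exact absurd hyp' (not_isPrimePow_mul (a := 2) (b := 3))
  subst ey ey'
  refine ⟨eq_one_of_eq_pow (q := 13) (q' := 7) (a := a) (c := 1) (a' := a') (by norm_num)
    (by norm_num) (by norm_num) (by norm_num) (by omega) (by omega), ?_⟩
  by_cases hR1 : R = ⊥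
  · exact Or.inl hR1
  have := hpx 2 (by norm_num) (by norm_num) (by norm_num) hR1
  have := hpx' 2 (by norm_num) dvd_rfl (by norm_num) hR1
  omega

theorem of_card_32537600 (hT : Nat.card M = 32537600) : M.index = 1 ∧ (R = ⊥ ∨ p = 2) := by
  obtain ⟨x, y, a, hx, hxy, hy, hyp, hidx, hpx⟩ :=
    data_at hpp R hp hR M hna (q := 41) (by norm_num) hT (by norm_num) (by norm_num)
  obtain ⟨x', y', a', hx', hxy', hy', hyp', hidx', hpx'⟩ :=
    data_at hpp R hp hR M hna (q := 31) (by norm_num) hT (by norm_num) (by norm_num)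
  have ex : x = 4 := by
    have : (Nat.divisors (41 - 1)).filter
        (fun z => 1 < z ∧ 41 * z ∣ 32537600 ∧ 32537600 / (41 * z) % 41 = 1) = {4} := by decide
    rw [this] at hx; simpa using hx
  have ex' : x' = 2 := by
    have : (Nat.divisors (31 - 1)).filter
        (fun z => 1 < z ∧ 31 * z ∣ 32537600 ∧ 32537600 / (31 * z) % 31 = 1) = {2} := by decide
    rw [this] at hx'; simpa using hx'
  subst ex ex'
  have ey : y = 4 ∨ y = 8 := by
    have hd : Nat.divisors (41 - 1) = {1, 2, 4, 5, 8, 10, 20, 40} := by decide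
    rw [hd] at hy
    simp only [Finset.mem_insert, Finset.mem_singleton] at hy
    rcases hy with rfl | rfl | rfl | rfl | rfl | rfl | rfl | rfl
    all_goals try omega
    · exact absurd hyp (not_isPrimePow_mul (a := 4) (b := 5))
    · exact absurd hyp (not_isPrimePow_mul (a := 8) (b := 5))
  have ey' : y' = 2 := by
    have hd : Nat.divisors (31 - 1) = {1, 2, 3, 5, 6, 10, 15, 30} := by decide
    rw [hd] at hy'
    simp only [Finset.mem_insert, Finset.mem_singleton] at hy'
    rcases hy' with rfl | rfl | rfl | rfl | rfl | rfl | rfl | rfl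
    all_goals try omega
    · exact absurd hyp' (not_isPrimePow_mul (a := 2) (b := 3))
    · exact absurd hyp' (not_isPrimePow_mul (a := 2) (b := 5))
    · exact absurd hyp' (not_isPrimePow_mul (a := 2) (b := 15))
  subst ey'
  have h1 : M.index = 31 ^ a' := by omega
  refine ⟨?_, ?_⟩
  · rcases ey with rfl | rfl
    · exact eq_one_of_eq_pow (q := 41) (q' := 31) (a := a) (c := 1) (by norm_num) (by norm_num)
        (by norm_num) (by norm_num) (by omega) h1
    · exact eq_one_of_eq_pow (q := 41) (q' := 31) (a := a) (c := 2) (by norm_num) (by norm_num)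
        (by norm_num) (by norm_num) (by omega) h1
  by_cases hR1 : R = ⊥
  · exact Or.inl hR1
  have := hpx 2 (by norm_num) (by norm_num) (by norm_num) hR1
  have := hpx' 2 (by norm_num) dvd_rfl (by norm_num) hR1
  omega

end CfsgLib.EPPOFour
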