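import Mathlib
import Cfsg.Agent.FgsSix.PrimePowerOrders

/-!
# Groups of prime power element orders: the normaliser of a Sylow subgroup of prime order

For a simple normal subgroup `M` and a prime `q` dividing its order once, the normaliser of a
subgroup of order `q` is solvable, so its order has two prime divisors. This bounds the index of
`M`, and the primes of a normal `p`-subgroup.
-/

set_option autoImplicit false
set_option linter.unusedSectionVars false
set_option linter.style.haveILetI false

namespace CfsgLib.EPPOFour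

open Subgroup

variable {G : Type*} [Group G] [Finite G]

/-- The automiser and centraliser of an element of prime order. -/
theorem centralizer_isPGroup (hpp : ∀ g : G, g ≠ 1 → IsPrimePow (orderOf g)) {x : G} {q : ℕ}
    (hq : q.Prime) (hx : orderOf x = q) : IsPGroup q ↥(centralizer ({x} : Set G)) := by
  rintro ⟨g, hg⟩
  by_cases hg1 : g = 1
  · exact ⟨0, Subtype.ext (by simpa using hg1)⟩
  obtain ⟨r, k, hr, hk, hrk⟩ := (isPrimePow_nat_iff _).1 (hpp g hg1)
  have hrq : r = q := by
    by_contra hne
    exact FgsSix.not_commute_of_ne hpp hr hq hne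
      (orderOf_pow_orderOf_div (orderOf_pos g).ne' (hrk ▸ dvd_pow_self r hk.ne')) hx
      ((show Commute g x from mem_centralizer_singleton_iff.1 hg).pow_left _)
  exact ⟨k, Subtype.ext (by push_cast; rw [← hrq, hrk, pow_orderOf_eq_one])⟩

/-- The automiser of a subgroup of prime order in a group of prime power element orders. -/
theorem automiser (hpp : ∀ g : G, g ≠ 1 → IsPrimePow (orderOf g)) (Q : Subgroup G) {q : ℕ}
    (hq : q.Prime) (hQ : Nat.card Q = q) :
    IsPGroup q ↥(centralizer (Q : Set G)) ∧ Group.IsSolvable ↥(normalizer (Q : Set G)) ∧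
      (centralizer (Q : Set G)).relIndex (normalizer (Q : Set G)) ∣ q - 1 ∧
      ((centralizer (Q : Set G)).relIndex (normalizer (Q : Set G)) = 1 ∨
        IsPrimePow ((centralizer (Q : Set G)).relIndex (normalizer (Q : Set G)))) := by
  haveI := Fact.mk hq
  haveI : IsCyclic ↥Q := isCyclic_of_prime_card hQ
  obtain ⟨x, hx⟩ := IsCyclic.exists_ofOrder_eq_natCard (α := ↥Q)
  rw [hQ, ← Subgroup.orderOf_coe] at hx
  have hC : IsPGroup q ↥(centralizer (Q : Set G)) := (centralizer_isPGroup hpp hq hx).to_le
    (centralizer_le (by simp [x.2]))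
  have hA : Nat.card (MulAut ↥Q) = q - 1 := by rw [IsCyclic.card_mulAut, hQ, Nat.totient_prime hq]
  set f := Q.normalizerMonoidHom with hf
  have hker : f.ker = (centralizer (Q : Set G)).subgroupOf (normalizer (Q : Set G)) :=
    normalizerMonoidHom_ker Q
  have hcard : Nat.card ↥f.range = (centralizer (Q : Set G)).relIndex (normalizer (Q : Set G)) := by
    rw [← index_ker, hker]; rfl
  haveI : IsCyclic (ZMod q)ˣ := ZMod.isCyclic_units_prime hq
  haveI hAc : IsCyclic (MulAut ↥Q) := by
    rw [MulEquiv.isCyclic (IsCyclic.mulAutMulEquiv ↥Q), hQ]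
    infer_instance
  refine ⟨hC, ?_, ?_, ?_⟩
  · have hkp : IsPGroup q ↥f.ker := by
      rw [hker]; exact hC.comap_subtype
    haveI := hkp.isNilpotent
    haveI : Group.IsSolvable ↥f.range := Group.isSolvable_of_comm fun a b =>
      Subtype.ext (IsMulCommutative.is_comm.comm (a : MulAut ↥Q) b)
    exact Group.isSolvable_of_ker_le_range f.ker.subtype f.rangeRestrict
      (by rw [MonoidHom.ker_rangeRestrict, range_subtype])
  · rw [← hcard, ← hA]
    exact card_subgroup_dvd_card f.range
  · rw [← hcard]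
    haveI : IsCyclic ↥f.range := Subgroup.isCyclic f.range
    obtain ⟨a, ha⟩ := IsCyclic.exists_ofOrder_eq_natCard (α := ↥f.range)
    obtain ⟨g, hg⟩ := f.rangeRestrict_surjective a
    by_cases hg1 : g = 1
    · left
      rw [← ha, ← hg, hg1, map_one, orderOf_one]
    · have hgG : (g : G) ≠ 1 := fun e => hg1 (Subtype.ext e)
      have h1 := hpp _ hgG
      rw [Subgroup.orderOf_coe] at h1
      by_cases h2 : orderOf a = 1
      · exact Or.inl (ha ▸ h2)
      · exact Or.inr (ha ▸ h1.dvd (hg ▸ orderOf_map_dvd _ g) h2)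

/-- Arithmetic data of the normaliser of a Sylow subgroup of prime order of a simple normal
subgroup. -/
theorem exists_data (hpp : ∀ g : G, g ≠ 1 → IsPrimePow (orderOf g)) (M : Subgroup G) [M.Normal]
    [IsSimpleGroup ↥M] (hna : ¬ IsMulCommutative ↥M) {q : ℕ} (hq : q.Prime)
    (hdvd : q ∣ Nat.card M) (honce : ¬ q ^ 2 ∣ Nat.card M) :
    ∃ x y n a : ℕ, 1 < x ∧ x ∣ y ∧ y ∣ q - 1 ∧ IsPrimePow y ∧ Nat.card M = n * (q * x) ∧
      n % q = 1 ∧ M.index * x = q ^ a * y ∧
      ∃ N : Subgroup G, Group.IsSolvable ↥N ∧ q * x ∣ Nat.card N := by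
  classical
  haveI := Fact.mk hq
  obtain ⟨P⟩ : Nonempty (Sylow q ↥M) := inferInstance
  have hP : Nat.card (P : Subgroup ↥M) = q := by
    obtain ⟨i, hi⟩ := IsPGroup.iff_card.1 P.isPGroup'
    have h1 := P.dvd_card_of_dvd_card hdvd
    have h2 := card_subgroup_dvd_card (P : Subgroup ↥M)
    rw [hi] at h1 h2 ⊢
    rcases i with _ | _ | i
    · exact absurd (Nat.dvd_one.1 (by simpa using h1)) hq.ne_one
    · exact pow_one q
    · exact absurd ((pow_dvd_pow q (by omega)).trans h2) honce
  set Q : Subgroup G := (P : Subgroup ↥M).map M.subtype with hQdef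
  have hQ : Nat.card Q = q := by rw [hQdef, card_map_of_injective M.subtype_injective, hP]
  obtain ⟨-, hPs, hPd, -⟩ := automiser (G := ↥M)
    (fun g hg => Subgroup.orderOf_coe g ▸ hpp _ (fun e => hg (Subtype.ext e))) (P : Subgroup ↥M) hq hP
  obtain ⟨hC, hNs, hNd, hNp⟩ := automiser hpp Q hq hQ
  -- in `M` the centraliser is `P` itself
  haveI : IsCyclic ↥(P : Subgroup ↥M) := isCyclic_of_prime_card hP
  haveI : IsMulCommutative ↥(P : Subgroup ↥M) := inferInstance
  have hPC : (P : Subgroup ↥M) ≤ centralizer ((P : Subgroup ↥M) : Set ↥M) :=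
    le_centralizer _
  have hCP : centralizer ((P : Subgroup ↥M) : Set ↥M) = (P : Subgroup ↥M) := by
    refine P.is_maximal' ?_ hPC
    exact (automiser (G := ↥M)
      (fun g hg => Subgroup.orderOf_coe g ▸ hpp _ (fun e => hg (Subtype.ext e))) _ hq hP).1
  set x := (centralizer ((P : Subgroup ↥M) : Set ↥M)).relIndex (normalizer ((P : Subgroup ↥M) : Set ↥M))
    with hx
  set y := (centralizer (Q : Set G)).relIndex (normalizer (Q : Set G)) with hy
  set N := normalizer (Q : Set G) with hN
  have hNM : Nat.card ↥(normalizer ((P : Subgroup ↥M) : Set ↥M)) = q * x := by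
    rw [← Subgroup.card_mul_index ((centralizer ((P : Subgroup ↥M) : Set ↥M)).subgroupOf
      (normalizer ((P : Subgroup ↥M) : Set ↥M))),
      Nat.card_congr (subgroupOfEquivOfLe (centralizer_le_normalizer _)).toEquiv, hCP, hP]
    rw [hx, hCP]; rfl
  have hx1 : 1 < x := by
    rcases Nat.lt_or_ge 1 x with h | h
    · exact h
    exfalso
    have hle : normalizer ((P : Subgroup ↥M) : Set ↥M) ≤ centralizer ((P : Subgroup ↥M) : Set ↥M) := by
      rw [← relIndex_eq_one]
      have : x ≠ 0 := by rw [hx]; exact index_ne_zero_of_finite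
      omega
    obtain hc := MonoidHom.ker_transferSylow_isComplement' P hle
    rcases (MonoidHom.normal_ker (MonoidHom.transferSylow P hle)).eq_bot_or_eq_top with e | e
    · rw [e] at hc
      have hPt : (P : Subgroup ↥M) = ⊤ := isComplement'_bot_left.1 hc
      haveI : IsCyclic ↥M := by
        rw [← MulEquiv.isCyclic topEquiv, ← hPt]; infer_instance
      exact hna inferInstance
    · rw [e] at hc
      have hPb : (P : Subgroup ↥M) = ⊥ := isComplement'_top_left.1 hc
      rw [hPb, card_bot] at hP
      exact hq.ne_one hP.symm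
  -- Frattini
  have hfr : N ⊔ M = ⊤ := Sylow.normalizer_sup_eq_top P
  have hNinf : N.subgroupOf M = normalizer ((P : Subgroup ↥M) : Set ↥M) := by
    rw [hN, subgroupOf_normalizer_eq (show Q ≤ M from map_subtype_le _), hQdef, subgroupOf,
      comap_map_eq_self_of_injective M.subtype_injective]
  have hcardN : Nat.card N = M.index * (q * x) := by
    have h1 : M.relIndex N = M.index := by
      rw [← relIndex_top_right, ← hfr, relIndex_sup_right]
    have h2 := Subgroup.card_mul_index (M.subgroupOf N)
    have h3 : Nat.card ↥(M.subgroupOf N) = q * x := by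
      rw [← hNM, ← hNinf]
      refine Nat.card_congr ⟨fun z => ⟨⟨z.1.1, z.2⟩, z.1.2⟩, fun z => ⟨⟨z.1.1, z.2⟩, z.1.2⟩,
        fun z => rfl, fun z => rfl⟩
    rw [h3] at h2
    rw [← h2, show (M.subgroupOf N).index = M.index from h1, mul_comm]
  obtain ⟨i, hi⟩ := IsPGroup.iff_card.1 hC
  have hcardN' : Nat.card N = q ^ i * y := by
    rw [← hi, hy, ← Subgroup.card_mul_index ((centralizer (Q : Set G)).subgroupOf N),
      Nat.card_congr (subgroupOfEquivOfLe (centralizer_le_normalizer _)).toEquiv]
    rfl
  have hq2 := hq.two_le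
  have hxq : x.Coprime q := Nat.Coprime.coprime_dvd_left hPd (by
    refine ((hq.coprime_iff_not_dvd).2 fun h => ?_).symm
    have := Nat.le_of_dvd (show 0 < q - 1 by omega) h
    omega)
  have hxy : x ∣ y := by
    have h : x ∣ q ^ i * y := hcardN' ▸ hcardN ▸ dvd_mul_of_dvd_right (dvd_mul_left x q) _
    exact (Nat.Coprime.pow_right i hxq).dvd_of_dvd_mul_left h
  obtain ⟨n, hn⟩ : q * x ∣ Nat.card M := hNM ▸ card_subgroup_dvd_card _
  have hnP : n = Nat.card (Sylow q ↥M) := by
    rw [P.card_eq_index_normalizer]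
    refine Nat.eq_of_mul_eq_mul_left (show 0 < q * x from Nat.mul_pos hq.pos (by omega)) ?_
    rw [← hn, ← hNM]
    exact (Subgroup.card_mul_index _).symm
  have hi1 : 1 ≤ i := by
    by_contra h0
    have : q * x ∣ y := by
      refine ⟨M.index, ?_⟩
      rw [show i = 0 by omega, pow_zero, one_mul] at hcardN'
      rw [← hcardN', hcardN, mul_comm]
    have h' := Nat.le_of_dvd (by have := hq.two_le; omega) ((dvd_mul_right q x).trans (this.trans hNd))
    have := hq.two_le
    omega
  refine ⟨x, y, n, i - 1, hx1, hxy, hNd, ?_, by rw [hn, mul_comm], ?_, ?_, N, hNs,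
    hcardN ▸ dvd_mul_left _ _⟩
  · refine hNp.resolve_left fun h => ?_
    rw [h, Nat.dvd_one] at hxy
    omega
  · rw [hnP]
    have := card_sylow_modEq_one q ↥M
    rw [Nat.ModEq, Nat.one_mod_eq_one.2 hq.ne_one] at this
    exact this
  · have h := hcardN.symm.trans hcardN'
    rw [show i = (i - 1) + 1 by omega, pow_succ] at h
    exact Nat.eq_of_mul_eq_mul_left hq.pos (by linear_combination h)

/-- A normal `p`-subgroup is trivial or shares its prime with every solvable subgroup of the
quotient whose order has two prime divisors. -/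
theorem prime_mem_pair (hpp : ∀ g : G, g ≠ 1 → IsPrimePow (orderOf g)) (R : Subgroup G) [R.Normal]
    {p : ℕ} (hp : p.Prime) (hR : IsPGroup p R) (hR1 : R ≠ ⊥) {N : Subgroup (G ⧸ R)}
    (hN : Group.IsSolvable ↥N) {q r : ℕ} (hq : q.Prime) (hr : r.Prime) (hqr : q ≠ r)
    (hqN : q ∣ Nat.card N) (hrN : r ∣ Nat.card N) : p = q ∨ p = r := by
  haveI := Fact.mk hp
  set K := N.comap (QuotientGroup.mk' R) with hK
  have hKs : Group.IsSolvable ↥K := by
    haveI := hR.isNilpotent
    refine Group.isSolvable_of_ker_le_range (Subgroup.inclusion (QuotientGroup.le_comap_mk' R N))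
      ((QuotientGroup.mk' R).subgroupComap N) ?_
    intro x hx
    have hx' : (x : G) ∈ R :=
      (QuotientGroup.eq_one_iff _).1 (congrArg Subtype.val (MonoidHom.mem_ker.1 hx))
    exact ⟨⟨x, hx'⟩, rfl⟩
  have h2 := FgsSix.card_primeFactors_le_two hpp K hKs
  have hd : Nat.card N ∣ Nat.card K := by
    have := Subgroup.card_map_dvd (H := K) (QuotientGroup.mk' R)
    rwa [hK, map_comap_eq_self_of_surjective (QuotientGroup.mk'_surjective R)] at this
  have hpK : p ∣ Nat.card K := by
    haveI := (Subgroup.nontrivial_iff_ne_bot R).2 hR1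
    exact ((hR.card_eq_or_dvd).resolve_left Finite.one_lt_card.ne').trans
      (card_dvd_of_le (QuotientGroup.le_comap_mk' R N))
  by_contra hne
  push Not at hne
  have hsub : ({p, q, r} : Finset ℕ) ⊆ (Nat.card K).primeFactors := by
    intro z hz
    simp only [Finset.mem_insert, Finset.mem_singleton] at hz
    rw [Nat.mem_primeFactors]
    rcases hz with rfl | rfl | rfl
    · exact ⟨hp, hpK, Nat.card_pos.ne'⟩
    · exact ⟨hq, hqN.trans hd, Nat.card_pos.ne'⟩
    · exact ⟨hr, hrN.trans hd, Nat.card_pos.ne'⟩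
  have := Finset.card_le_card hsub
  rw [Finset.card_eq_three.2 ⟨p, q, r, hne.1, hne.2, hqr, rfl⟩] at this
  omega

end CfsgLib.EPPOFour
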