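import Cfsg.Agent.EPPOFour.Main
import Cfsg.Agent.CITGroups.Basic
import Cfsg.Agent.Suzuki.Tori
import Cfsg.Agent.EPPOSeven.Main
import Cfsg.Agent.S2475
import Cfsg.Agent.S0252
import Cfsg.Agent.S0253
import Cfsg.Agent.S0254

/-!
# The simple groups of prime power element orders

Given the classification of the simple groups with two-group involution centralisers.
-/

set_option autoImplicit false
set_option linter.unusedSectionVars false
set_option linter.style.haveILetI false

namespace CfsgLib.EPPOFour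

open Subgroup

universe u

/-- The simple groups with two-group involution centralisers, up to isomorphism. -/
def CITList (T : Type*) [Group T] : Prop :=
    (∃ (F : Type) (_ : Field F) (_ : Fintype F),
        (Fintype.card F = 9 ∨ (∃ n : ℕ, Fintype.card F = 2 ^ n) ∨
          ((Fintype.card F).Prime ∧ ∃ k : ℕ, Fintype.card F = 2 ^ k + 1 ∨ Fintype.card F + 1 = 2 ^ k)) ∧
        Nonempty (T ≃* Matrix.ProjectiveSpecialLinearGroup (Fin 2) F)) ∨
    (∃ (F : Type) (_ : Field F) (_ : Fintype F), Fintype.card F = 4 ∧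
        Nonempty (T ≃* Matrix.ProjectiveSpecialLinearGroup (Fin 3) F)) ∨
    Cfsg.Lie.IsoSuzuki T

section basic

variable {G : Type*} [Group G] [Finite G]

/-- Prime power element orders give two-group involution centralisers. -/
theorem isCIT (hpp : ∀ g : G, g ≠ 1 → IsPrimePow (orderOf g)) : CITGroups.IsCIT G := by
  intro t ht
  refine CITGroups.isPGroup_two_of_forall fun g hg ho => by_contra fun h1 => ?_
  obtain ⟨p, i, hp, hp2, hpi⟩ := CITGroups.exists_prime_pow ho h1
  exact FgsSix.not_commute_of_ne hpp Nat.prime_two hp (Ne.symm hp2) ht hpi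
    ((mem_centralizer_singleton_iff.1 (pow_mem hg i) : g ^ i * t = t * g ^ i).symm)

/-- Prime power element orders pass to isomorphic groups. -/
theorem of_equiv {K : Type*} [Group K] (hpp : ∀ g : G, g ≠ 1 → IsPrimePow (orderOf g)) (e : G ≃* K) :
    ∀ k : K, k ≠ 1 → IsPrimePow (orderOf k) := fun k hk => by
  rw [← e.apply_symm_apply k, e.orderOf_eq]
  exact hpp _ fun h => hk (by rw [← e.apply_symm_apply k, h, map_one])

end basic

/-- A power of three next to a power of two on the other side. -/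
theorem three_pow_succ_eq {a n : ℕ} (h : 3 ^ a + 1 = 2 ^ n) : n ≤ 2 := by
  by_contra hn
  obtain ⟨c, hc⟩ : (2 : ℕ) ^ 3 ∣ 2 ^ n := pow_dvd_pow 2 (by omega)
  have h8 : 3 ^ a % 8 = 1 ∨ 3 ^ a % 8 = 3 := by
    rw [← Nat.div_add_mod a 2, pow_add, pow_mul, Nat.mul_mod, Nat.pow_mod]
    rcases Nat.mod_two_eq_zero_or_one a with h | h <;> rw [h] <;> norm_num
  omega

theorem exists_eq_pow_of_dvd {r n : ℕ} (hr : r.Prime) (h : IsPrimePow n) (hd : r ∣ n) :
    ∃ a, n = r ^ a := by
  obtain ⟨s, k, hs, -, rfl⟩ := (isPrimePow_nat_iff n).1 h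
  obtain rfl := (Nat.prime_dvd_prime_iff_eq hr hs).1 (hr.dvd_of_dvd_pow hd)
  exact ⟨k, rfl⟩

section psl

variable {F : Type*} [Field F] [Fintype F]

/-- The orders of the two tori are prime powers. -/
theorem torus_orders (hpp : ∀ g : Matrix.ProjectiveSpecialLinearGroup (Fin 2) F, g ≠ 1 →
    IsPrimePow (orderOf g)) (h4 : 4 ≤ Fintype.card F) {k : ℕ} (hk : 1 < k)
    (hd : k ∣ (Fintype.card F - 1) / Nat.gcd 2 (Fintype.card F - 1) ∨
      k ∣ (Fintype.card F + 1) / Nat.gcd 2 (Fintype.card F - 1)) : IsPrimePow k := by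
  obtain ⟨p, hp⟩ := CharP.exists F
  obtain ⟨a, hpp', -⟩ := FiniteField.card F p
  haveI := Fact.mk hpp'
  haveI := hp
  obtain ⟨x, hx⟩ : k ∈ Set.range (orderOf : Matrix.ProjectiveSpecialLinearGroup (Fin 2) F → ℕ) := by
    rw [Cfsg.Agent.S2475.result (F := F) p h4]
    exact Or.inr hd
  rw [← hx]
  exact hpp x fun e => by rw [e, orderOf_one] at hx; omega

/-- The fields of characteristic two. -/
theorem card_of_two_pow (hpp : ∀ g : Matrix.ProjectiveSpecialLinearGroup (Fin 2) F, g ≠ 1 →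
    IsPrimePow (orderOf g)) (h4 : 4 ≤ Fintype.card F) {n : ℕ} (hn : Fintype.card F = 2 ^ n) :
    Fintype.card F = 4 ∨ Fintype.card F = 8 := by
  have hn2 : 2 ≤ n := by
    by_contra h
    interval_cases n <;> omega
  have hg : Nat.gcd 2 (Fintype.card F - 1) = 1 := by
    refine Nat.prime_two.coprime_iff_not_dvd.2 ?_
    have : 2 ∣ 2 ^ n := dvd_pow_self 2 (by omega)
    omega
  have ho := fun k hk hd => torus_orders hpp h4 (k := k) hk hd
  rw [hg, Nat.div_one, Nat.div_one, hn] at ho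
  rcases Nat.even_or_odd n with ⟨l, hl⟩ | ⟨l, hl⟩
  · have h3 : 3 ∣ 2 ^ n - 1 := by
      have : 2 ^ n % 3 = 1 := by rw [hl, ← two_mul, pow_mul, Nat.pow_mod]; norm_num
      omega
    obtain ⟨a, ha⟩ := exists_eq_pow_of_dvd Nat.prime_three (ho _ (by omega) (Or.inl dvd_rfl)) h3
    have := three_pow_succ_eq (a := a) (n := n) (by omega)
    obtain rfl : n = 2 := by omega
    exact Or.inl hn
  · have h3 : 3 ∣ 2 ^ n + 1 := by
      have : 2 ^ n % 3 = 2 := by
        rw [hl, pow_succ, pow_mul, Nat.mul_mod, Nat.pow_mod]; norm_num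
      omega
    obtain ⟨a, ha⟩ := exists_eq_pow_of_dvd Nat.prime_three (ho _ (by omega) (Or.inr dvd_rfl)) h3
    have := EPPOSeven.three_pow_eq (a := a) (M := n) ha.symm
    obtain rfl : n = 3 := by
      rcases Nat.lt_or_ge n 4 with h | h
      · omega
      · have := Nat.pow_le_pow_right (show 0 < 2 by norm_num) h
        omega
    exact Or.inr hn

/-- The prime fields. -/
theorem card_of_prime (hpp : ∀ g : Matrix.ProjectiveSpecialLinearGroup (Fin 2) F, g ≠ 1 →
    IsPrimePow (orderOf g)) (h4 : 4 ≤ Fintype.card F) (hp : (Fintype.card F).Prime) {k : ℕ}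
    (hk : Fintype.card F = 2 ^ k + 1 ∨ Fintype.card F + 1 = 2 ^ k) :
    Fintype.card F = 5 ∨ Fintype.card F = 7 ∨ Fintype.card F = 17 := by
  obtain ⟨r, hr⟩ := hp.odd_of_ne_two (by omega)
  have hg : Nat.gcd 2 (Fintype.card F - 1) = 2 := Nat.gcd_eq_left (by omega)
  have ho := fun m hm hd => torus_orders hpp h4 (k := m) hm hd
  rw [hg, show (Fintype.card F - 1) / 2 = r by omega, show (Fintype.card F + 1) / 2 = r + 1 by omega]
    at ho
  rcases hk with hk | hk
  · have hk2 : 2 ≤ k := by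
      by_contra h
      interval_cases k <;> omega
    have hr' : r = 2 ^ (k - 1) := by
      have : 2 ^ k = 2 * 2 ^ (k - 1) := by rw [← pow_succ', Nat.sub_add_cancel (by omega)]
      omega
    rcases Nat.even_or_odd k with ⟨l, hl⟩ | ⟨l, hl⟩
    · have h3 : 3 ∣ r + 1 := by
        have : 2 ^ (k - 1) % 3 = 2 := by
          rw [show k - 1 = 2 * (l - 1) + 1 by omega, pow_succ, pow_mul, Nat.mul_mod, Nat.pow_mod]
          norm_num
        omega
      obtain ⟨a, ha⟩ := exists_eq_pow_of_dvd Nat.prime_three (ho _ (by omega) (Or.inr dvd_rfl)) h3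
      have := EPPOSeven.three_pow_eq (a := a) (M := k - 1) (by omega)
      have hk4 : k - 1 ≤ 3 := by
        by_contra h
        have := Nat.pow_le_pow_right (show 0 < 2 by norm_num) (show 4 ≤ k - 1 by omega)
        omega
      obtain rfl | rfl : k = 2 ∨ k = 4 := by omega
      · exact Or.inl hk
      · exact Or.inr (Or.inr hk)
    · have : 3 ∣ Fintype.card F := by
        have : 2 ^ k % 3 = 2 := by
          rw [hl, pow_succ, pow_mul, Nat.mul_mod, Nat.pow_mod]; norm_num
        omega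
      have := (Nat.prime_dvd_prime_iff_eq Nat.prime_three hp).1 this
      omega
  · have hk3 : 3 ≤ k := by
      by_contra h
      interval_cases k <;> omega
    have hr' : r + 1 = 2 ^ (k - 1) := by
      have : 2 ^ k = 2 * 2 ^ (k - 1) := by rw [← pow_succ', Nat.sub_add_cancel (by omega)]
      omega
    rcases Nat.even_or_odd k with ⟨l, hl⟩ | ⟨l, hl⟩
    · have : 3 ∣ Fintype.card F := by
        have : 2 ^ k % 3 = 1 := by rw [hl, ← two_mul, pow_mul, Nat.pow_mod]; norm_num
        omega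
      have := (Nat.prime_dvd_prime_iff_eq Nat.prime_three hp).1 this
      omega
    · have h3 : 3 ∣ r := by
        have : 2 ^ (k - 1) % 3 = 1 := by
          rw [show k - 1 = 2 * l by omega, pow_mul, Nat.pow_mod]; norm_num
        omega
      obtain ⟨a, ha⟩ := exists_eq_pow_of_dvd Nat.prime_three (ho _ (by omega) (Or.inl dvd_rfl)) h3
      have := three_pow_succ_eq (a := a) (n := k - 1) (by omega)
      obtain rfl : k = 3 := by omega
      exact Or.inr (Or.inl (by omega))

end psl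

/-- The Suzuki groups. -/
theorem suzuki_param {F : Type*} [Field F] [Fintype F] {m : ℕ} (hS : Suzuki.SzField F m)
    (hpp : ∀ g : Cfsg.Sz F m, g ≠ 1 → IsPrimePow (orderOf g)) : m ≤ 2 := by
  by_contra hm
  haveI : Fact (Nat.Prime 2) := ⟨Nat.prime_two⟩
  have hq : Fintype.card F = 2 * (2 ^ m * 2 ^ m) := by
    rw [hS.card_eq]; ring
  have h8 : 8 ≤ 2 ^ m := (Nat.pow_le_pow_right (show 0 < 2 by norm_num) (show 3 ≤ m by omega) :)
  have hR : 2 ^ (m + 1) = 2 * 2 ^ m := pow_succ' 2 m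
  have hRq : 2 ^ (m + 1) ≤ Fintype.card F := by nlinarith
  have h5 : 5 ∣ Fintype.card F ^ 2 + 1 := by
    have : (2 * (2 ^ m * 2 ^ m)) ^ 2 = 4 * 16 ^ m := by
      rw [show (16 : ℕ) = 2 ^ 4 by norm_num, ← pow_mul, mul_comm 4 m, pow_mul]; ring
    have h16 : (4 * 16 ^ m) % 5 = 4 := by rw [Nat.mul_mod, Nat.pow_mod]; norm_num
    rw [hq, this]
    omega
  obtain ⟨k, hk, hk5⟩ : ∃ k, (k = Fintype.card F + 2 ^ (m + 1) + 1 ∨
      k = Fintype.card F - 2 ^ (m + 1) + 1) ∧ 5 ∣ k := by
    have hprod : (Fintype.card F + 2 ^ (m + 1) + 1) * (Fintype.card F - 2 ^ (m + 1) + 1) =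
        Fintype.card F ^ 2 + 1 := by
      zify [hRq]
      rw [hq, pow_succ' (2 : ℤ) m]
      push_cast
      ring
    rw [← hprod] at h5
    rcases (Nat.Prime.dvd_mul (by norm_num)).1 h5 with h | h
    · exact ⟨_, Or.inl rfl, h⟩
    · exact ⟨_, Or.inr rfl, h⟩
  obtain ⟨z, hz, hzk, -⟩ := Suzuki.exists_torus hS hk
  haveI := hz.cyclic hS
  obtain ⟨g, hg⟩ := IsCyclic.exists_generator (α := Suzuki.cT z)
  have hgo : orderOf (g : Cfsg.Sz F m) = k := by
    rw [Subgroup.orderOf_coe, orderOf_eq_card_of_forall_mem_zpowers hg, hzk]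
  have hk1 : 1 < k := by
    rcases hk with rfl | rfl <;> omega
  obtain ⟨b, hb⟩ := exists_eq_pow_of_dvd (by norm_num : Nat.Prime 5)
    (hgo ▸ hpp g fun e => by rw [e, orderOf_one] at hgo; omega) hk5
  -- the two part of `5 ^ b - 1` is small
  obtain ⟨c, hc⟩ : 2 ^ (m + 1) ∣ 5 ^ b - 1 := by
    have hd : 2 ^ (m + 1) ∣ Fintype.card F := hS.card_eq ▸ pow_dvd_pow 2 (by omega)
    rcases hk with rfl | rfl
    · rw [← hb, Nat.add_sub_cancel]
      exact dvd_add hd dvd_rfl
    · rw [← hb, Nat.add_sub_cancel]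
      exact Nat.dvd_sub hd dvd_rfl
  have hpad : m + 1 ≤ padicValNat 2 (5 ^ b - 1) := by
    refine (padicValNat_dvd_iff_le ?_).1 ⟨c, hc⟩
    omega
  have hb0 : b ≠ 0 := by rintro rfl; omega
  rcases Nat.even_or_odd b with hev | hod
  · have h := padicValNat.pow_two_sub_pow (x := 5) (y := 1) (by norm_num) (by norm_num) (by norm_num)
      hb0 hev
    rw [one_pow, show (5 : ℕ) + 1 = 2 * 3 by norm_num, show (5 : ℕ) - 1 = 2 ^ 2 by norm_num,
      padicValNat.mul (by norm_num) (by norm_num), padicValNat.self (by norm_num),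
      padicValNat.prime_pow, padicValNat.eq_zero_of_not_dvd (n := 3) (by norm_num)] at h
    have hbm : m - 1 ≤ padicValNat 2 b := by omega
    have hdvd : 2 ^ (m - 1) ∣ b := (padicValNat_dvd_iff_le hb0).2 hbm
    have hb4 : 2 ^ (m - 1) ≤ b := Nat.le_of_dvd (by omega) hdvd
    have hmb : m + 1 ≤ b := by
      have h1 := Nat.lt_two_pow_self (n := m - 2)
      have h2 : 2 ^ (m - 1) = 2 * 2 ^ (m - 2) := by rw [← pow_succ']; congr 1; omega
      omega
    have h2 : 2 ^ (2 * m + 2) ≤ 5 ^ b :=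
      calc 2 ^ (2 * m + 2) ≤ 2 ^ (2 * b) := Nat.pow_le_pow_right (by norm_num) (by omega)
        _ = 4 ^ b := by rw [pow_mul]; norm_num
        _ ≤ 5 ^ b := Nat.pow_le_pow_left (by norm_num) b
    rw [pow_succ' 2 (2 * m + 1), ← hS.card_eq] at h2
    have h3 : 2 * (2 * 2 ^ m) ≤ 2 * (2 ^ m * 2 ^ m) := by nlinarith
    rcases hk with rfl | rfl <;> omega
  · have h8d : 2 ^ 3 ∣ 5 ^ b - 1 := (pow_dvd_pow 2 (by omega)).trans ⟨c, hc⟩
    obtain ⟨l, hl⟩ := hod
    have : 5 ^ b % 8 = 5 := by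
      rw [hl, pow_succ, pow_mul, Nat.mul_mod, Nat.pow_mod]; norm_num
    omega

/-- The list. -/
theorem simpleList_of_cit {G : Type u} [Group G] [Finite G] [IsSimpleGroup G]
    (hna : ¬ IsMulCommutative G) (hpp : ∀ g : G, g ≠ 1 → IsPrimePow (orderOf g))
    (hlist : CITList G) : SimpleList G := by
  rcases hlist with ⟨F, i1, i2, hF, ⟨e⟩⟩ | h | ⟨F, i1, i2, m, hm, hF, ⟨e⟩⟩
  · have hP := of_equiv hpp e
    have h4 : 4 ≤ Fintype.card F := by
      by_contra h4
      have hmul := Linear.card_PSL_two_mul (F := F)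
      have hc := Nat.card_congr e.toEquiv
      have hF1 : 1 < Fintype.card F := Fintype.one_lt_card
      haveI : Fact (Nat.Prime 3) := ⟨Nat.prime_three⟩
      haveI : Fact (Nat.Prime 2) := ⟨Nat.prime_two⟩
      rcases (show Fintype.card F = 2 ∨ Fintype.card F = 3 by omega) with h | h <;>
        rw [h] at hmul <;> norm_num at hmul
      · have h6 : Nat.card G = 6 := by omega
        obtain ⟨P⟩ : Nonempty (Sylow 3 G) := inferInstance
        refine EPPOSeven.no_index_two hna (P : Subgroup G) ?_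
        have hP3 : Nat.card (P : Subgroup G) = 3 := by
          rw [P.card_eq_multiplicity, h6, show 6 = 2 ^ 1 * 3 ^ 1 by norm_num,
            Nat.factorization_mul (by norm_num) (by norm_num), Finsupp.add_apply,
            Nat.prime_two.factorization_pow, Nat.prime_three.factorization_pow,
            Finsupp.single_eq_same, Finsupp.single_eq_of_ne (by norm_num)]
          norm_num
        have := card_mul_index (P : Subgroup G)
        rw [hP3, h6] at this
        omega
      · exact Classification.DihedralBSW.card_ne_twelve (Classical.arbitrary (Sylow 2 G)) hna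
          (by omega)
    rcases hF with h9 | ⟨n, hn⟩ | ⟨hp, k, hk⟩
    · obtain ⟨e'⟩ := Cfsg.Agent.S0254.result h9
      exact Or.inl ⟨e.trans e'⟩
    · refine Or.inr (Or.inl ⟨F, i1, i2, ?_, ⟨e⟩⟩)
      rcases card_of_two_pow hP h4 hn with h | h <;> simp [h]
    · rcases card_of_prime hP h4 hp hk with h | h | h
      · obtain ⟨e5⟩ := Cfsg.Agent.S0253.result h
        obtain ⟨e4⟩ := Cfsg.Agent.S0252.result Linear.card_gf4
        exact Or.inr (Or.inl ⟨Linear.GF4, inferInstance, inferInstance, by simp [Linear.card_gf4],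
          ⟨e.trans (e5.trans e4.symm)⟩⟩)
      · exact Or.inr (Or.inl ⟨F, i1, i2, by simp [h], ⟨e⟩⟩)
      · exact Or.inr (Or.inl ⟨F, i1, i2, by simp [h], ⟨e⟩⟩)
  · exact Or.inr (Or.inr (Or.inl h))
  · have hS : Suzuki.SzField F m := ⟨hm, hF⟩
    have := suzuki_param hS (of_equiv hpp (e.trans (Suzuki.lieSzEquiv hS).symm))
    obtain rfl | rfl : m = 1 ∨ m = 2 := by omega
    · exact Or.inr (Or.inr (Or.inr ⟨F, i1, i2, Or.inl ⟨by rw [hF]; norm_num, ⟨e⟩⟩⟩))
    · exact Or.inr (Or.inr (Or.inr ⟨F, i1, i2, Or.inr ⟨by rw [hF]; norm_num, ⟨e⟩⟩⟩))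

end CfsgLib.EPPOFour
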